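import Groth.Agent.ResProp.EF.K496.CobAbs
import Groth.Agent.ResProp.EF.K380.DCF
import Groth.Agent.Hoch.K915.DSq
import Groth.Agent.HopfRep.K187.HochMap
import Mathlib.RingTheory.Flat.Basic
import Mathlib.Algebra.Homology.ShortComplex.ModuleCat

/-!
# The cobar complex of comodules over a bialgebra (`S16912`, node (6c3), helper496)

`GO R O` : the comonad `M ↦ M ⊗[R] O` on `ModuleCat.{u} R`, `UO R O` its unit `m ↦ m ⊗ 1`.
`ofComod V`, `toComod M`, `homMk`, `isComodHom`: coalgebras over `GO R O` are comodules over `O`.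
`cobEquiv n M : (Cob M).homology n ≃ₗ[R] Hoch.H R O M n`.
-/

set_option autoImplicit false

noncomputable section

open CategoryTheory CategoryTheory.Limits TensorProduct

namespace Groth.Agent.ResProp.EF.K496

universe u

section Defs

variable (R : Type u) [CommRing R] (O : Type u) [CommRing O] [Bialgebra R O]

/-- counit `M ⊗ O → M` -/
def epsL (M : Type u) [AddCommGroup M] [Module R M] : M ⊗[R] O →ₗ[R] M :=
  (TensorProduct.rid R M).toLinearMap ∘ₗ (Coalgebra.counit (R := R) (A := O)).lTensor M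

variable {R O} in
@[simp] lemma epsL_tmul {M : Type u} [AddCommGroup M] [Module R M] (m : M) (a : O) :
    epsL R O M (m ⊗ₜ a) = Coalgebra.counit (R := R) a • m := by
  simp [epsL]

lemma coactAux_coassoc (M : Type u) [AddCommGroup M] [Module R M] :
    (Hoch.Ind.coactAux R O M).rTensor O ∘ₗ Hoch.Ind.coactAux R O M =
      Hoch.Ind.coactAux R O (M ⊗[R] O) ∘ₗ Hoch.Ind.coactAux R O M := by
  have h := (Hoch.Ind.comod R O M).coassoc
  change (TensorProduct.assoc R (M ⊗[R] O) O O).toLinearMap ∘ₗ (Hoch.Ind.coactAux R O M).rTensor O ∘ₗ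
    Hoch.Ind.coactAux R O M = (Coalgebra.comul (R := R) (A := O)).lTensor (M ⊗[R] O) ∘ₗ Hoch.Ind.coactAux R O M at h
  apply LinearMap.ext
  intro x
  have hx := LinearMap.congr_fun h x
  simp only [LinearMap.comp_apply, LinearEquiv.coe_coe] at hx
  simp only [LinearMap.comp_apply]
  have h2 : Hoch.Ind.coactAux R O (M ⊗[R] O) (Hoch.Ind.coactAux R O M x) =
      (TensorProduct.assoc R (M ⊗[R] O) O O).symm
        ((Coalgebra.comul (R := R) (A := O)).lTensor (M ⊗[R] O) (Hoch.Ind.coactAux R O M x)) := rfl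
  rw [h2, ← hx, LinearEquiv.symm_apply_apply]

lemma epsL_coactAux (M : Type u) [AddCommGroup M] [Module R M] :
    epsL R O (M ⊗[R] O) ∘ₗ Hoch.Ind.coactAux R O M = LinearMap.id := by
  have h := (Hoch.Ind.comod R O M).counit_comp
  change (Coalgebra.counit (R := R) (A := O)).lTensor (M ⊗[R] O) ∘ₗ Hoch.Ind.coactAux R O M =
      (TensorProduct.mk R (M ⊗[R] O) R).flip 1 at h
  rw [epsL, LinearMap.comp_assoc, h]
  apply LinearMap.ext
  intro x
  simp

lemma epsL_rTensor_coactAux (M : Type u) [AddCommGroup M] [Module R M] :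
    (epsL R O M).rTensor O ∘ₗ Hoch.Ind.coactAux R O M = LinearMap.id := by
  refine TensorProduct.ext' fun m a => ?_
  have h : ∀ w : O ⊗[R] O, (epsL R O M).rTensor O ((TensorProduct.assoc R M O O).symm (m ⊗ₜ w)) =
      m ⊗ₜ TensorProduct.lid R O ((Coalgebra.counit (R := R) (A := O)).rTensor O w) := by
    intro w
    induction w using TensorProduct.induction_on with
    | zero => simp
    | add x y hx hy => simp only [TensorProduct.tmul_add, map_add, hx, hy]
    | tmul x y => simp [TensorProduct.smul_tmul]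
  rw [LinearMap.comp_apply, Hoch.Ind.coactAux_tmul, h, Coalgebra.rTensor_counit_comul]
  simp

/-- the functor `M ↦ M ⊗ O` -/
@[simps]
def FO : ModuleCat.{u} R ⥤ ModuleCat.{u} R where
  obj M := ModuleCat.of R (M ⊗[R] O)
  map f := ModuleCat.ofHom (f.hom.rTensor O)
  map_id M := by
    ext : 1
    exact LinearMap.rTensor_id O M
  map_comp f g := by
    ext : 1
    exact LinearMap.rTensor_comp O g.hom f.hom

lemma coactAux_nat {M N : Type u} [AddCommGroup M] [Module R M] [AddCommGroup N] [Module R N] (f : M →ₗ[R] N) :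
    Hoch.Ind.coactAux R O N ∘ₗ f.rTensor O = (f.rTensor O).rTensor O ∘ₗ Hoch.Ind.coactAux R O M := by
  refine TensorProduct.ext' fun m a => ?_
  rw [LinearMap.comp_apply, LinearMap.comp_apply, LinearMap.rTensor_tmul, Hoch.Ind.coactAux_tmul,
    Hoch.Ind.coactAux_tmul]
  generalize Coalgebra.comul (R := R) a = w
  induction w using TensorProduct.induction_on with
  | zero => simp
  | add x y hx hy => simp only [TensorProduct.tmul_add, map_add, hx, hy]
  | tmul x y => simp

/-- The comonad `M ↦ M ⊗ O`. -/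
def GO : Comonad (ModuleCat.{u} R) where
  toFunctor := FO R O
  ε := { app := fun M => ModuleCat.ofHom (epsL R O M)
         naturality := fun M N f => by
          ext : 1
          refine TensorProduct.ext' fun m a => ?_
          change epsL R O N (f.hom m ⊗ₜ a) = f.hom (epsL R O M (m ⊗ₜ a))
          rw [epsL_tmul, epsL_tmul, map_smul] }
  δ := { app := fun M => ModuleCat.ofHom (Hoch.Ind.coactAux R O M)
         naturality := fun M N f => by
          ext : 1
          exact coactAux_nat R O f.hom }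
  coassoc M := by
    ext : 1
    exact coactAux_coassoc R O M
  left_counit M := by
    ext : 1
    exact epsL_coactAux R O M
  right_counit M := by
    ext : 1
    exact epsL_rTensor_coactAux R O M

/-- The unit `m ↦ m ⊗ 1`. -/
def UO : CUnit (GO R O) where
  e M := ModuleCat.ofHom ((TensorProduct.mk R M O).flip 1)
  nat {M N} f := by
    ext : 1
    apply LinearMap.ext
    intro x
    exact (LinearMap.rTensor_tmul O f.hom (1 : O) x).symm
  counit M := by
    ext : 1
    apply LinearMap.ext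
    intro x
    change epsL R O M (x ⊗ₜ 1) = x
    rw [epsL_tmul, Bialgebra.counit_one, one_smul]
  comul M := by
    ext : 1
    apply LinearMap.ext
    intro x
    change Hoch.Ind.coactAux R O M (x ⊗ₜ 1) = ((TensorProduct.mk R M O).flip 1).rTensor O (x ⊗ₜ 1)
    rw [Hoch.Ind.coactAux_tmul, Bialgebra.comul_one]
    rfl

instance additive_GO : (GO R O).toFunctor.Additive where
  map_add {M N f g} := by
    ext : 1
    exact LinearMap.rTensor_add O f.hom g.hom

lemma shortExact_GO [Module.Flat R O] (S : ShortComplex (ModuleCat.{u} R)) (hS : S.ShortExact) :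
    (S.map (GO R O).toFunctor).ShortExact := by
  have h1 := (ModuleCat.mono_iff_injective S.f).1 hS.mono_f
  have h2 := (ModuleCat.epi_iff_surjective S.g).1 hS.epi_g
  have h3 := (ShortComplex.ShortExact.moduleCat_exact_iff_function_exact _).1 hS.exact
  have hm : Mono (S.map (GO R O).toFunctor).f := (ModuleCat.mono_iff_injective _).2
    (Module.Flat.rTensor_preserves_injective_linearMap _ h1)
  have he : Epi (S.map (GO R O).toFunctor).g := (ModuleCat.epi_iff_surjective _).2
    (LinearMap.rTensor_surjective O h2)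
  exact ⟨(ShortComplex.ShortExact.moduleCat_exact_iff_function_exact _).2 (rTensor_exact O h3 h2)⟩

lemma exact_GO [Module.Flat R O] :
    PreservesFiniteLimits (GO R O).toFunctor ∧ PreservesFiniteColimits (GO R O).toFunctor := by
  have h := (Functor.exact_tfae (GO R O).toFunctor).out 0 3
  exact h.mp (shortExact_GO R O)

instance lim_GO [Module.Flat R O] : PreservesFiniteLimits (GO R O).toFunctor := (exact_GO R O).1

instance colim_GO [Module.Flat R O] : PreservesFiniteColimits (GO R O).toFunctor := (exact_GO R O).2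

end Defs

section Comod

variable {R : Type u} [CommRing R] {O : Type u} [CommRing O] [Bialgebra R O]

/-- comodule ⇒ coalgebra, unbundled structure -/
def mkCoalg (V : Type u) [AddCommGroup V] [Module R V] (c : HopfRep.Comod R O V) : (GO R O).Coalgebra where
  A := ModuleCat.of R V
  a := ModuleCat.ofHom c.coact
  counit := by
    ext : 1
    change epsL R O V ∘ₗ c.coact = LinearMap.id
    rw [epsL, LinearMap.comp_assoc]
    have h := c.counit_comp
    change (Coalgebra.counit (R := R) (A := O)).lTensor V ∘ₗ c.coact = _ at h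
    rw [h]
    apply LinearMap.ext
    intro x
    simp
  coassoc := by
    ext : 1
    change Hoch.Ind.coactAux R O V ∘ₗ c.coact = c.coact.rTensor O ∘ₗ c.coact
    have h := c.coassoc
    apply LinearMap.ext
    intro x
    have hx := LinearMap.congr_fun h x
    simp only [LinearMap.comp_apply, LinearEquiv.coe_coe] at hx
    simp only [LinearMap.comp_apply]
    have h2 : Hoch.Ind.coactAux R O V (c.coact x) =
      (TensorProduct.assoc R V O O).symm ((Coalgebra.comul (R := R) (A := O)).lTensor V (c.coact x)) := rfl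
    rw [h2, ← hx, LinearEquiv.symm_apply_apply]

/-- comodule ⇒ coalgebra -/
abbrev ofComod (V : Type u) [AddCommGroup V] [Module R V] [c : HopfRep.Comod R O V] : (GO R O).Coalgebra :=
  mkCoalg V c

/-- the coaction of a coalgebra -/
def coactOf (M : (GO R O).Coalgebra) : M.A →ₗ[R] M.A ⊗[R] O := M.a.hom

lemma coactOf_coassoc (M : (GO R O).Coalgebra) :
    (coactOf M).rTensor O ∘ₗ coactOf M = Hoch.Ind.coactAux R O M.A ∘ₗ coactOf M :=
  congrArg (fun t => t.hom) M.coassoc.symm

lemma coactOf_counit (M : (GO R O).Coalgebra) : epsL R O M.A ∘ₗ coactOf M = LinearMap.id :=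
  congrArg (fun t => t.hom) M.counit

/-- coalgebra ⇒ comodule -/
@[reducible] def toComod (M : (GO R O).Coalgebra) : HopfRep.Comod R O M.A where
  coact := coactOf M
  coassoc := by
    rw [coactOf_coassoc, ← LinearMap.comp_assoc]
    congr 1
    apply LinearMap.ext
    intro x
    exact LinearEquiv.apply_symm_apply (TensorProduct.assoc R M.A O O) _
  counit_comp := by
    apply LinearMap.ext
    intro x
    have hx : TensorProduct.rid R M.A ((Coalgebra.counit (R := R) (A := O)).lTensor M.A (coactOf M x)) = x :=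
      LinearMap.congr_fun (coactOf_counit M) x
    apply (TensorProduct.rid R M.A).injective
    refine hx.trans ?_
    simp

/-- comodule homomorphism ⇒ morphism of coalgebras (unbundled structures) -/
def mkHom {V W : Type u} [AddCommGroup V] [Module R V] [AddCommGroup W] [Module R W] (c : HopfRep.Comod R O V)
    (d : HopfRep.Comod R O W) (f : V →ₗ[R] W) (hf : Hoch.IsComodHom O f) : mkCoalg V c ⟶ mkCoalg W d where
  f := ModuleCat.ofHom f
  h := by
    ext : 1
    exact hf.symm

/-- morphism of coalgebras ⇒ comodule homomorphism -/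
lemma isComodHom {M N : (GO R O).Coalgebra} (f : M ⟶ N) :
    @Hoch.IsComodHom R _ O _ _ _ M.A _ _ (toComod M) N.A _ _ (toComod N) f.f.hom :=
  (congrArg ModuleCat.Hom.hom f.h).symm

lemma mkCoalg_toComod (M : (GO R O).Coalgebra) : mkCoalg M.A (toComod M) = M := rfl

lemma toComod_mkCoalg (V : Type u) [AddCommGroup V] [Module R V] (c : HopfRep.Comod R O V) :
    toComod (mkCoalg V c) = c := rfl

/-! ### Cochains and cohomology -/

lemma tl_hom (N : ModuleCat.{u} R) : ((UO R O).tl N).hom = Hoch.tail R O N := by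
  apply LinearMap.ext
  intro x
  exact (K915.HochDSq.tail_apply R O N x).symm

/-- `G^n M = Hoch.cochain n` -/
def ce (N : ModuleCat.{u} R) :
    (n : ℕ) → (((pw (GO R O) N n : ModuleCat.{u} R) : Type u) ≃ₗ[R] (Hoch.cochain R O N n : Type u))
  | 0 => LinearEquiv.refl R N
  | n + 1 => (ce N n).rTensor O

lemma neg_one_pow_zsmul (m : ℕ) {M : Type u} [AddCommGroup M] [Module R M] (x : M) :
    ((-1 : ℤ) ^ m) • x = ((-1 : R) ^ m) • x := by
  rcases Nat.even_or_odd m with h | h
  · rw [h.neg_one_pow, h.neg_one_pow, one_smul, one_smul]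
  · rw [h.neg_one_pow, h.neg_one_pow, neg_smul, neg_smul, one_smul, one_smul]

lemma stp_hom {X : ModuleCat.{u} R} (f : X →ₗ[R] X ⊗[R] O) (m : ℕ) :
    ((UO R O).stp (ModuleCat.ofHom f : X ⟶ (GO R O).obj X) ((-1 : ℤ) ^ m)).hom =
      f.rTensor O + ((-1 : R) ^ m) • Hoch.tail R O X := by
  let T : X ⊗[R] O →ₗ[R] (X ⊗[R] O) ⊗[R] O := ((UO R O).tl X).hom
  have hT : T = Hoch.tail R O X := tl_hom X
  apply LinearMap.ext
  intro x
  change f.rTensor O x + ((-1 : ℤ) ^ m) • T x = f.rTensor O x + ((-1 : R) ^ m) • Hoch.tail R O X x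
  rw [neg_one_pow_zsmul (R := R), hT]

lemma ce_step {X : ModuleCat.{u} R} {Y : Type u} [AddCommGroup Y] [Module R Y] (e : X ≃ₗ[R] Y)
    (f : X →ₗ[R] X ⊗[R] O) (D : Y →ₗ[R] Y ⊗[R] O) (h : ∀ x : X, e.rTensor O (f x) = D (e x)) (m : ℕ)
    (x : X ⊗[R] O) :
    (e.rTensor O).rTensor O (((UO R O).stp (ModuleCat.ofHom f : X ⟶ (GO R O).obj X) ((-1 : ℤ) ^ m)).hom x) =
      (D.rTensor O + ((-1 : R) ^ m) • Hoch.tail R O Y) (e.rTensor O x) := by
  rw [stp_hom]
  have := K915.HochBasic.map_step R O e.toLinearMap f D ((-1 : R) ^ m) (by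
    apply LinearMap.ext
    intro x
    exact (h x).symm)
  exact (LinearMap.congr_fun this x).symm

lemma ce_d (M : (GO R O).Coalgebra) (n : ℕ) (x : ((pw (GO R O) M.A n : ModuleCat.{u} R) : Type u)) :
    letI := toComod M
    ce M.A (n + 1) (((UO R O).d M n).hom x) = Hoch.d R O M.A n (ce M.A n x) := by
  letI := toComod M
  induction n with
  | zero =>
    have h : ∀ y : M.A ⊗[R] O, ce M.A 1 y = y := fun y => by
      change (LinearEquiv.refl R M.A).rTensor O y = y
      simp
    exact h _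
  | succ n ih => exact ce_step (ce M.A n) ((UO R O).d M n).hom _ ih (n + 1) x

lemma ce_map_step {X Y : ModuleCat.{u} R} {X' Y' : Type u} [AddCommGroup X'] [Module R X'] [AddCommGroup Y']
    [Module R Y'] (e : X ≃ₗ[R] X') (e' : Y ≃ₗ[R] Y') (f : X →ₗ[R] Y) (g : X' →ₗ[R] Y')
    (h : ∀ x, e' (f x) = g (e x)) (x : X ⊗[R] O) :
    e'.rTensor O (f.rTensor O x) = g.rTensor O (e.rTensor O x) := by
  have h1 : e'.toLinearMap ∘ₗ f = g ∘ₗ e.toLinearMap := LinearMap.ext h
  have h2 := congrArg (LinearMap.rTensor O) h1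
  rw [LinearMap.rTensor_comp, LinearMap.rTensor_comp] at h2
  exact LinearMap.congr_fun h2 x

lemma ce_map {M N : ModuleCat.{u} R} (f : M ⟶ N) (n : ℕ) (x : ((pw (GO R O) M n : ModuleCat.{u} R) : Type u)) :
    ce N n ((pwMap (GO R O) f n).hom x) = K187.HochMap.map R O f.hom n (ce M n x) := by
  induction n with
  | zero => rfl
  | succ n ih => exact ce_map_step (ce M n) (ce N n) _ _ ih x

variable (R) in
/-- quotients of kernels by ranges under linear equivalences -/
def quotEquiv {X₁ X₂ X₃ : Type u} [AddCommGroup X₁] [Module R X₁] [AddCommGroup X₂] [Module R X₂] [AddCommGroup X₃]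
    [Module R X₃] {Y₁ Y₂ Y₃ : Type u} [AddCommGroup Y₁] [Module R Y₁] [AddCommGroup Y₂] [Module R Y₂]
    [AddCommGroup Y₃] [Module R Y₃] (f : X₁ →ₗ[R] X₂) (g : X₂ →ₗ[R] X₃) (B : Submodule R Y₂) (g' : Y₂ →ₗ[R] Y₃)
    (e : X₂ ≃ₗ[R] Y₂) (e₃ : X₃ ≃ₗ[R] Y₃) (hB : (LinearMap.range f).map e.toLinearMap = B)
    (hg : ∀ x, e₃ (g x) = g' (e x)) :
    (LinearMap.ker g ⧸ (LinearMap.range f).comap (LinearMap.ker g).subtype) ≃ₗ[R]
      (LinearMap.ker g' ⧸ B.comap (LinearMap.ker g').subtype) :=
  Submodule.Quotient.equiv _ _ (e.ofSubmodules _ _ (by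
    ext y
    simp only [Submodule.mem_map, LinearMap.mem_ker]
    constructor
    · rintro ⟨x, hx, rfl⟩
      change g' (e x) = 0
      rw [← hg, hx, map_zero]
    · intro hy
      refine ⟨e.symm y, ?_, e.apply_symm_apply y⟩
      apply e₃.injective
      rw [hg, e.apply_symm_apply, hy, map_zero])) (by
    ext y
    simp only [Submodule.mem_map, Submodule.mem_comap]
    constructor
    · rintro ⟨x, hx, rfl⟩
      rw [← hB]
      exact ⟨x, hx, rfl⟩
    · intro hy
      rw [← hB] at hy
      obtain ⟨x, hx, hxy⟩ := hy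
      have hx0 : g x = 0 := by
        apply e₃.injective
        rw [hg, map_zero]
        have : e x = y := hxy
        rw [this]
        exact y.2
      exact ⟨⟨x, hx0⟩, hx, Subtype.ext hxy⟩)

/-- homology of a complex of modules as a quotient -/
def homEquiv (K : CochainComplex (ModuleCat.{u} R) ℤ) (i j k : ℤ) (hij : i + 1 = j) (hjk : j + 1 = k) :
    (K.homology j : Type u) ≃ₗ[R] (LinearMap.ker (K.d j k).hom ⧸
      (LinearMap.range (K.d i j).hom).comap (LinearMap.ker (K.d j k).hom).subtype) :=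
  ((K.homologyIsoSc' i j k ((ComplexShape.up ℤ).prev_eq' hij) ((ComplexShape.up ℤ).next_eq' hjk)) ≪≫
    (K.sc' i j k).moduleCatHomologyIso).toLinearEquiv ≪≫ₗ
    Submodule.quotEquivOfEq _ _ (LinearMap.range_codRestrict _ _ _)

/-- The cobar complex of a comodule. -/
abbrev cobM (M : (GO R O).Coalgebra) : CochainComplex (ModuleCat.{u} R) ℤ := (UO R O).Cob.obj M

/-- the identification of the terms of the cobar complex with the cochains -/
def ceX (M : (GO R O).Coalgebra) (n : ℕ) :
    ((cobM M).X (n : ℤ) : Type u) ≃ₗ[R] (Hoch.cochain R O M.A n : Type u) := ce M.A n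

lemma ceX_d (M : (GO R O).Coalgebra) (n : ℕ) (x : ((cobM M).X (n : ℤ) : Type u)) :
    letI := toComod M
    ceX M (n + 1) (((cobM M).d (n : ℤ) ((n + 1 : ℕ) : ℤ)).hom x) = Hoch.d R O M.A n (ceX M n x) := by
  have h : (cobM M).d (n : ℤ) ((n + 1 : ℕ) : ℤ) = (UO R O).d M n := (UO R O).Cob_d M n
  rw [h]
  exact ce_d M n x

/-- homology of the cobar complex, degree 0 -/
def cobEquivZero (M : (GO R O).Coalgebra) :
    ((cobM M).homology ((0 : ℕ) : ℤ) : Type u) ≃ₗ[R] @Hoch.H R _ O _ _ M.A _ _ (toComod M) 0 :=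
  letI := toComod M
  (homEquiv (cobM M) (-1) ((0 : ℕ) : ℤ) ((0 + 1 : ℕ) : ℤ) rfl rfl).trans
    (quotEquiv R (X₁ := (cobM M).X (-1)) (X₂ := (cobM M).X ((0 : ℕ) : ℤ)) (X₃ := (cobM M).X ((0 + 1 : ℕ) : ℤ))
      (Y₁ := PUnit) _ _ (Hoch.coboundaries R O M.A 0) (Hoch.d R O M.A 0) (ceX M 0) (ceX M 1)
      (by
        have h : (cobM M).d (-1) ((0 : ℕ) : ℤ) = 0 := (isZero_zero (ModuleCat.{u} R)).eq_of_src _ _
        rw [h]
        change Submodule.map _ (LinearMap.range (0 : _ →ₗ[R] _)) = ⊥
        rw [LinearMap.range_zero, Submodule.map_bot]) (ceX_d M 0))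

/-- homology of the cobar complex, degree n + 1 -/
def cobEquivSucc (M : (GO R O).Coalgebra) (n : ℕ) :
    ((cobM M).homology ((n + 1 : ℕ) : ℤ) : Type u) ≃ₗ[R] @Hoch.H R _ O _ _ M.A _ _ (toComod M) (n + 1) :=
  letI := toComod M
  (homEquiv (cobM M) ((n : ℕ) : ℤ) ((n + 1 : ℕ) : ℤ) ((n + 1 + 1 : ℕ) : ℤ) (by push_cast; rfl) (by push_cast; rfl)).trans
    (quotEquiv R (X₁ := (cobM M).X (n : ℤ)) (X₂ := (cobM M).X ((n + 1 : ℕ) : ℤ))
      (X₃ := (cobM M).X ((n + 1 + 1 : ℕ) : ℤ))
      (Y₁ := PUnit) _ _ (Hoch.coboundaries R O M.A (n + 1)) (Hoch.d R O M.A (n + 1)) (ceX M (n + 1)) (ceX M (n + 1 + 1))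
      (by
        ext y
        simp only [Submodule.mem_map, LinearMap.mem_range]
        constructor
        · rintro ⟨x, ⟨z, rfl⟩, rfl⟩
          exact ⟨ceX M n z, (ceX_d M n z).symm⟩
        · rintro ⟨z, rfl⟩
          refine ⟨_, ⟨(ceX M n).symm z, rfl⟩, ?_⟩
          refine (ceX_d M n _).trans ?_
          rw [LinearEquiv.apply_symm_apply]) (ceX_d M (n + 1)))

/-- **The homology of the cobar complex is the cohomology of the comodule.** -/
def cobEquiv (M : (GO R O).Coalgebra) : (n : ℕ) →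
    (((cobM M).homology (n : ℤ) : Type u) ≃ₗ[R] @Hoch.H R _ O _ _ M.A _ _ (toComod M) n)
  | 0 => cobEquivZero M
  | n + 1 => cobEquivSucc M n

lemma isZero_homology_neg (M : (GO R O).Coalgebra) (j : ℤ) (hj : j < 0) : IsZero ((cobM M).homology j) :=
  (HomologicalComplex.ExactAt.of_isZero ((UO R O).isZero_Cob M j hj)).isZero_homology

end Comod

section Tot

variable {R : Type u} [CommRing R] {O : Type u} [CommRing O] [Bialgebra R O] [Module.Flat R O]

open HomologicalComplex₂ ComplexShape

/-- the total cobar complex of a complex of comodules -/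
abbrev totCob (Q : CochainComplex (GO R O).Coalgebra ℤ) : CochainComplex (ModuleCat.{u} R) ℤ :=
  HomologicalComplex₂.total (K380.DCF.dc (UO R O).Cob Q) (up ℤ)

/-- Serre class statement -/
theorem totCob_prop (P : ObjectProperty (ModuleCat.{u} R)) [P.IsSerreClass] {a : ℤ}
    (Q : CochainComplex (GO R O).Coalgebra ℤ) (hQ : ∀ i : ℤ, i < a → IsZero (Q.X i)) (n : ℤ)
    (h : ∀ (i : ℤ) (j : ℕ), i + j = n →
      P (ModuleCat.of R (@Hoch.H R _ O _ _ (Q.homology i).A _ _ (toComod (Q.homology i)) j))) :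
    P ((totCob Q).homology n) := by
  refine K380.DCF.main (UO R O).Cob P (fun M j hj => (UO R O).isZero_Cob M j hj) Q hQ n fun i j hij => ?_
  by_cases hj : j < 0
  · exact P.prop_of_isZero (isZero_homology_neg _ j hj)
  · obtain ⟨m, rfl⟩ := Int.eq_ofNat_of_zero_le (not_lt.mp hj)
    exact P.prop_of_iso (cobEquiv (Q.homology i) m).toModuleIso.symm (h i m hij)

/-- finiteness -/
theorem totCob_finite [IsNoetherianRing R] {a : ℤ}
    (Q : CochainComplex (GO R O).Coalgebra ℤ) (hQ : ∀ i : ℤ, i < a → IsZero (Q.X i)) (n : ℤ)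
    (h : ∀ (i : ℤ) (j : ℕ), i + j = n →
      Module.Finite R (@Hoch.H R _ O _ _ (Q.homology i).A _ _ (toComod (Q.homology i)) j)) :
    Module.Finite R ((totCob Q).homology n) :=
  totCob_prop (K380.DCF.fg R) Q hQ n h

/-- vanishing -/
theorem totCob_isZero {a : ℤ}
    (Q : CochainComplex (GO R O).Coalgebra ℤ) (hQ : ∀ i : ℤ, i < a → IsZero (Q.X i)) (r d n : ℤ)
    (hr : ∀ i : ℤ, r < i → IsZero (Q.homology i))
    (hd : ∀ (i : ℤ) (j : ℕ), i ≤ r → d < j →
      Subsingleton (@Hoch.H R _ O _ _ (Q.homology i).A _ _ (toComod (Q.homology i)) j))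
    (hn : r + d < n) : IsZero ((totCob Q).homology n) := by
  refine totCob_prop (IsZero (C := ModuleCat.{u} R)) Q hQ n fun i j hij => ?_
  by_cases hi : r < i
  · have h1 : IsZero (ModuleCat.of R (Q.homology i).A) := (GO R O).forget.map_isZero (hr i hi)
    have h2 : IsZero ((cobM (Q.homology i)).homology (j : ℤ)) :=
      (HomologicalComplex.homologyFunctor _ _ (j : ℤ)).map_isZero ((UO R O).Cob.map_isZero (hr i hi))
    exact h2.of_iso (cobEquiv (Q.homology i) j).toModuleIso.symm
  · have := hd i j (not_lt.mp hi) (by lia)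
    exact ModuleCat.isZero_of_subsingleton _

end Tot

end Groth.Agent.ResProp.EF.K496
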