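import Groth.Agent.ResProp.EF.K496.CobMod
import Groth.Agent.ResProp.EF.K805.Bridge

/-!
# `X ⊗[k] O = X ⊗[A] (A ⊗[k] O)`, compatibly with counit, comultiplication, unit (`S16912`, helper496)

Module level, for an `A`-module `X` with compatible `k`-structure; uses `K805.up`.
-/

set_option autoImplicit false

noncomputable section

open CategoryTheory TensorProduct

namespace Groth.Agent.ResProp.EF.K496

universe u

variable {k : Type u} [CommRing k] {O : Type u} [CommRing O] [Bialgebra k O] {A : Type u} [CommRing A] [Algebra k A]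

section

variable {X : Type u} [AddCommGroup X] [Module k X] [Module A X] [IsScalarTower k A X]
variable {Y : Type u} [AddCommGroup Y] [Module k Y] [Module A Y] [IsScalarTower k A Y]

variable (k O A X) in
/-- `x ⊗ a ↦ x ⊗ (1 ⊗ a)` -/
def bcE : X ⊗[k] O ≃ₗ[A] X ⊗[A] (A ⊗[k] O) := K805.upEquiv k O (LinearEquiv.refl A X)

@[simp] lemma bcE_tmul (x : X) (a : O) : bcE k O A X (x ⊗ₜ[k] a) = x ⊗ₜ[A] ((1 : A) ⊗ₜ[k] a) :=
  K805.upEquiv_tmul _ _ _

lemma bcE_eps (z : X ⊗[k] O) :
    epsL A (A ⊗[k] O) X (bcE k O A X z) =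
      TensorProduct.rid k X ((Coalgebra.counit (R := k) (A := O)).lTensor X z) := by
  induction z using TensorProduct.induction_on with
  | zero => simp
  | add x y hx hy => simp only [map_add, hx, hy]
  | tmul x a =>
    rw [bcE_tmul, epsL_tmul, LinearMap.lTensor_tmul, TensorProduct.rid_tmul, TensorProduct.counit_tmul]
    rw [← algebraMap_smul A (Coalgebra.counit (R := k) a) x]
    simp [Algebra.smul_def]

lemma bcE_one (x : X) : bcE k O A X (x ⊗ₜ[k] (1 : O)) = x ⊗ₜ[A] (1 : A ⊗[k] O) := by
  rw [bcE_tmul, Algebra.TensorProduct.one_def]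

lemma bcE_del (z : X ⊗[k] O) :
    K805.up k O (bcE k O A X).toLinearMap (Hoch.Ind.coactAux k O X z) =
      Hoch.Ind.coactAux A (A ⊗[k] O) X (bcE k O A X z) := by
  induction z using TensorProduct.induction_on with
  | zero => simp
  | add x y hx hy => simp only [map_add, hx, hy]
  | tmul x a =>
    rw [bcE_tmul, Hoch.Ind.coactAux_tmul, Hoch.Ind.coactAux_tmul, K805.comul_one_tmul]
    exact K805.up_up_assoc (LinearMap.id : X →ₗ[A] X) x (Coalgebra.comul (R := k) a)

lemma bcE_nat (f : X →ₗ[A] Y) (z : X ⊗[k] O) :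
    bcE k O A Y ((f.restrictScalars k).rTensor O z) = f.rTensor (A ⊗[k] O) (bcE k O A X z) := by
  induction z using TensorProduct.induction_on with
  | zero => simp
  | add x y hx hy => simp only [map_add, hx, hy]
  | tmul x a =>
    rw [bcE_tmul, LinearMap.rTensor_tmul, LinearMap.rTensor_tmul, bcE_tmul]
    rfl

end

end Groth.Agent.ResProp.EF.K496
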