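import Groth.Agent.ResProp.EF.K668.CoalgAb
import Mathlib.Algebra.Homology.HomologicalComplexAbelian
import Mathlib.CategoryTheory.Abelian.Exact
import Mathlib.Algebra.Homology.ShortComplex.ExactFunctor

/-!
# The cobar complex of a coalgebra over a comonad with a unit (`S16912`, node (6c3), helper496)

`G` a comonad on `C`, `η : 𝟭 ⟶ G` such that `(N, η_N)` is a coalgebra for all `N` (`CUnit G`).
`Cob : G.Coalgebra ⥤ CochainComplex C ℤ`, `Cob(M)^n = G^n M` for `n ≥ 0`, `0` for `n < 0`, differential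
`d^0 = a - η`, `d^(n+1) = G(d^n) + (-1)^(n+1) (δ - η_G - G η)` (the differential of `Hoch.d`).
`Cob` is additive, exact if `G` is.
-/

set_option autoImplicit false

noncomputable section

open CategoryTheory CategoryTheory.Limits

namespace Groth.Agent.ResProp.EF.K496

universe v v' u u'

variable {C : Type u} [Category.{v} C]

/-- A unit for the comonad `G`: every object is a coalgebra, naturally. -/
structure CUnit (G : Comonad C) where
  e : ∀ N : C, N ⟶ G.obj N
  nat : ∀ {M N : C} (f : M ⟶ N), f ≫ e N = e M ≫ G.map f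
  counit : ∀ N : C, e N ≫ G.ε.app N = 𝟙 N
  comul : ∀ N : C, e N ≫ G.δ.app N = e N ≫ G.map (e N)

/-- the comultiplication, with its type spelled out -/
abbrev dl (G : Comonad C) (N : C) : G.obj N ⟶ G.obj (G.obj N) := G.δ.app N

variable {G : Comonad C} (U : CUnit G)

/-- the trivial coalgebra structure -/
@[simps]
def CUnit.triv (N : C) : G.Coalgebra where
  A := N
  a := U.e N
  counit := U.counit N
  coassoc := U.comul N

/-- `G^n` -/
@[reducible] def pw (G : Comonad C) (N : C) : ℕ → C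
  | 0 => N
  | n + 1 => G.obj (pw G N n)

/-- `G^n` on maps -/
def pwMap (G : Comonad C) {M N : C} (f : M ⟶ N) : (n : ℕ) → (pw G M n ⟶ pw G N n)
  | 0 => f
  | n + 1 => G.map (pwMap G f n)

@[simp] lemma pwMap_id (M : C) (n : ℕ) : pwMap G (𝟙 M) n = 𝟙 _ := by
  induction n with
  | zero => rfl
  | succ n ih => simp only [pwMap, ih]; exact G.map_id _

@[simp] lemma pwMap_comp {M N P : C} (f : M ⟶ N) (g : N ⟶ P) (n : ℕ) :
    pwMap G (f ≫ g) n = pwMap G f n ≫ pwMap G g n := by
  induction n with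
  | zero => rfl
  | succ n ih => simp only [pwMap, ih]; exact G.map_comp _ _

/-- `G^n` as a functor -/
@[simps]
def pwFunctor (G : Comonad C) (n : ℕ) : C ⥤ C where
  obj N := pw G N n
  map f := pwMap G f n

section Preadditive

variable [Preadditive C]

/-- `δ - η_G - G η` -/
def CUnit.tl (N : C) : G.obj N ⟶ G.obj (G.obj N) :=
  dl G N - U.e (G.obj N) - G.map (U.e N)

variable [G.toFunctor.Additive]

lemma Gadd {M N : C} (f g : M ⟶ N) : G.map (f + g) = G.map f + G.map g := G.toFunctor.map_add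
lemma Gsub {M N : C} (f g : M ⟶ N) : G.map (f - g) = G.map f - G.map g := G.toFunctor.map_sub
lemma Gzero (M N : C) : G.map (0 : M ⟶ N) = 0 := G.toFunctor.map_zero _ _
lemma Gsmul {M N : C} (f : M ⟶ N) (r : ℤ) : G.map (r • f) = r • G.map f := G.toFunctor.map_zsmul

omit [Preadditive C] [G.toFunctor.Additive] in
lemma δnat {M N : C} (f : M ⟶ N) : G.map f ≫ dl G N = dl G M ≫ G.map (G.map f) :=
  G.δ.naturality f

omit [G.toFunctor.Additive] in
lemma CUnit.tl_nat {M N : C} (f : M ⟶ N) : G.map f ≫ U.tl N = U.tl M ≫ G.map (G.map f) := by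
  simp only [CUnit.tl, Preadditive.comp_sub, Preadditive.sub_comp, δnat, U.nat]
  rw [← G.map_comp, ← G.map_comp, U.nat]

lemma CUnit.tl_tl (N : C) : U.tl N ≫ G.map (U.tl N) = U.tl N ≫ U.tl (G.obj N) := by
  have h1 : dl G N ≫ G.map (dl G N) = dl G N ≫ dl G (G.obj N) := G.coassoc N
  have h2 : dl G N ≫ G.map (G.map (U.e N)) = G.map (U.e N) ≫ dl G (G.obj N) := (δnat _).symm
  have h3 : dl G N ≫ U.e (G.obj (G.obj N)) = U.e (G.obj N) ≫ G.map (dl G N) := U.nat _
  have h4 : G.map (U.e N) ≫ U.e (G.obj (G.obj N)) = U.e (G.obj N) ≫ G.map (G.map (U.e N)) :=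
    U.nat _
  have h5 : U.e (G.obj N) ≫ dl G (G.obj N) = U.e (G.obj N) ≫ U.e (G.obj (G.obj N)) := by
    rw [U.comul, U.nat]
  have h6 : G.map (U.e N) ≫ G.map (dl G N) = G.map (U.e N) ≫ G.map (G.map (U.e N)) := by
    rw [← G.map_comp, ← G.map_comp, U.comul]
  rw [← sub_eq_zero, ← Preadditive.comp_sub]
  have e : G.map (U.tl N) - U.tl (G.obj N) =
      G.map (dl G N) - G.map (G.map (U.e N)) - dl G (G.obj N) + U.e (G.obj (G.obj N)) := by
    simp only [CUnit.tl, Gsub]
    abel
  rw [e]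
  simp only [CUnit.tl, Preadditive.sub_comp, Preadditive.comp_sub, Preadditive.comp_add, h1, h2, h3, h4, h5, h6]
  abel

/-- the inductive step of the differential -/
def CUnit.stp {N : C} (f : N ⟶ G.obj N) (s : ℤ) : G.obj N ⟶ G.obj (G.obj N) :=
  G.map f + s • U.tl N

lemma CUnit.stp_stp {N : C} (f : N ⟶ G.obj N) (s t : ℤ) (hf : f ≫ U.stp f s = 0) (ht : t = -s) (hs : s * s = 1) : U.stp f s ≫ U.stp (U.stp f s) t = 0 := by
  have h1 : G.map f ≫ U.tl (G.obj N) = U.tl N ≫ G.map (G.map f) := U.tl_nat _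
  have h2 : G.map f ≫ G.map (U.stp f s) = 0 := by
    rw [← G.map_comp, hf, Gzero]
  have h4 : G.map (U.stp f s) = G.map (G.map f) + s • G.map (U.tl N) := by
    rw [CUnit.stp, Gadd, Gsmul]
  have e1 : U.stp f s ≫ U.stp (U.stp f s) t =
      (G.map f + s • U.tl N) ≫ (G.map (U.stp f s) + t • U.tl (G.obj N)) := rfl
  rw [e1, Preadditive.add_comp, Preadditive.comp_add, Preadditive.comp_add, h2, zero_add,
    Preadditive.comp_zsmul, h1, Preadditive.zsmul_comp, Preadditive.zsmul_comp, Preadditive.comp_zsmul, h4,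
    Preadditive.comp_add, Preadditive.comp_zsmul, ← U.tl_tl, smul_add, smul_smul, smul_smul, hs, ht, one_smul]
  rw [mul_neg, hs]
  simp only [neg_smul, one_smul]
  abel

omit [G.toFunctor.Additive] in
lemma CUnit.stp_nat {M N : C} (f : M ⟶ G.obj M) (g : N ⟶ G.obj N) (s : ℤ) (h : M ⟶ N)
    (hh : f ≫ G.map h = h ≫ g) : U.stp f s ≫ G.map (G.map h) = G.map h ≫ U.stp g s := by
  have h1 : G.map h ≫ U.tl N = U.tl M ≫ G.map (G.map h) := U.tl_nat _
  rw [CUnit.stp, CUnit.stp, Preadditive.add_comp, Preadditive.comp_add, ← G.map_comp, hh, G.map_comp,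
    Preadditive.comp_zsmul, h1, Preadditive.zsmul_comp]

/-- the differential -/
def CUnit.d (M : G.Coalgebra) : (n : ℕ) → (pw G M.A n ⟶ pw G M.A (n + 1))
  | 0 => M.a - U.e M.A
  | n + 1 => U.stp (CUnit.d M n) ((-1 : ℤ) ^ (n + 1))

omit [G.toFunctor.Additive] in
lemma CUnit.d_zero (M : G.Coalgebra) : U.d M 0 = M.a - U.e M.A := rfl

omit [G.toFunctor.Additive] in
lemma CUnit.d_succ (M : G.Coalgebra) (n : ℕ) :
    U.d M (n + 1) = U.stp (U.d M n) ((-1 : ℤ) ^ (n + 1)) := rfl

lemma CUnit.d_d_zero {N : C} (a : N ⟶ G.obj N) (h0 : a ≫ G.map a = a ≫ dl G N) :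
    (a - U.e N) ≫ U.stp (a - U.e N) (-1) = 0 := by
  have h1 : a ≫ U.e (G.obj N) = U.e N ≫ G.map a := U.nat _
  have h2 : U.e N ≫ dl G N = U.e N ≫ U.e (G.obj N) := by
    rw [U.comul, U.nat]
  have e : U.stp (a - U.e N) (-1) = G.map a - dl G N + U.e (G.obj N) := by
    simp only [CUnit.stp, CUnit.tl, Gsub, neg_smul, one_smul]
    abel
  rw [e]
  simp only [Preadditive.sub_comp, Preadditive.comp_sub, Preadditive.comp_add, h0, h1, h2]
  abel

lemma CUnit.d_d (M : G.Coalgebra) (n : ℕ) : U.d M n ≫ U.d M (n + 1) = 0 := by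
  induction n with
  | zero =>
    have h := U.d_d_zero M.a M.coassoc.symm
    have e : U.d M 1 = U.stp (M.a - U.e M.A) (-1) := congrArg (U.stp (M.a - U.e M.A)) (by norm_num)
    rw [← e] at h
    exact h
  | succ n ih =>
    refine U.stp_stp (U.d M n) ((-1 : ℤ) ^ (n + 1)) ((-1 : ℤ) ^ (n + 1 + 1)) ih ?_ ?_
    · rw [pow_succ (-1 : ℤ) (n + 1), mul_neg, mul_one]
    · rcases neg_one_pow_eq_or ℤ (n + 1) with h | h <;> rw [h] <;> rfl

omit [G.toFunctor.Additive] in
lemma CUnit.d_nat {M N : G.Coalgebra} (f : M ⟶ N) (n : ℕ) :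
    U.d M n ≫ pwMap G f.f (n + 1) = pwMap G f.f n ≫ U.d N n := by
  induction n with
  | zero =>
    have h1 : M.a ≫ G.map f.f = f.f ≫ N.a := f.h
    have h2 : f.f ≫ U.e N.A = U.e M.A ≫ G.map f.f := U.nat _
    have : (M.a - U.e M.A) ≫ G.map f.f = f.f ≫ (N.a - U.e N.A) := by
      rw [Preadditive.sub_comp, Preadditive.comp_sub, h1, h2]
    exact this
  | succ n ih => exact U.stp_nat _ _ _ _ ih

variable [HasZeroObject C]

open ZeroObject

/-- the terms, indexed by `ℤ` -/
def cobX (G : Comonad C) (N : C) : ℤ → C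
  | Int.ofNat n => pw G N n
  | Int.negSucc _ => 0

/-- the differential, indexed by `ℤ` -/
def CUnit.cobd (M : G.Coalgebra) : (n : ℤ) → (cobX G M.A n ⟶ cobX G M.A (n + 1))
  | Int.ofNat n => U.d M n
  | Int.negSucc _ => 0

/-- the maps, indexed by `ℤ` -/
def cobMap (G : Comonad C) {M N : C} (f : M ⟶ N) : (n : ℤ) → (cobX G M n ⟶ cobX G N n)
  | Int.ofNat n => pwMap G f n
  | Int.negSucc _ => 0

/-- The cobar complex. -/
def CUnit.cob (M : G.Coalgebra) : CochainComplex C ℤ :=
  CochainComplex.of (cobX G M.A) (U.cobd M) fun n => by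
    cases n with
    | ofNat n => exact U.d_d M n
    | negSucc n => exact zero_comp

/-- The map on cobar complexes. -/
def CUnit.cobHom {M N : G.Coalgebra} (f : M ⟶ N) : U.cob M ⟶ U.cob N where
  f := cobMap G f.f
  comm' i j hij := by
    obtain rfl : i + 1 = j := hij
    have hM : (U.cob M).d i (i + 1) = U.cobd M i := CochainComplex.of_d _ _ _
    have hN : (U.cob N).d i (i + 1) = U.cobd N i := CochainComplex.of_d _ _ _
    rw [hM, hN]
    cases i with
    | ofNat n => exact (U.d_nat f n).symm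
    | negSucc n => exact (isZero_zero C).eq_of_src _ _

/-- The cobar complex, functor. -/
def CUnit.Cob : G.Coalgebra ⥤ CochainComplex C ℤ where
  obj M := U.cob M
  map f := U.cobHom f
  map_id M := by
    ext n
    change cobMap G (𝟙 M.A) n = 𝟙 _
    cases n with
    | ofNat n => exact pwMap_id _ n
    | negSucc n => exact (isZero_zero C).eq_of_src _ _
  map_comp f g := by
    ext n
    change cobMap G (f.f ≫ g.f) n = cobMap G f.f n ≫ cobMap G g.f n
    cases n with
    | ofNat n => exact pwMap_comp _ _ n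
    | negSucc n => exact (isZero_zero C).eq_of_src _ _

lemma CUnit.Cob_X (M : G.Coalgebra) (n : ℤ) : (U.Cob.obj M).X n = cobX G M.A n := rfl

lemma CUnit.Cob_map_f {M N : G.Coalgebra} (f : M ⟶ N) (n : ℤ) : (U.Cob.map f).f n = cobMap G f.f n := rfl

lemma CUnit.Cob_d (M : G.Coalgebra) (n : ℕ) :
    (U.Cob.obj M).d (n : ℤ) ((n : ℤ) + 1) = U.d M n := CochainComplex.of_d _ _ _

lemma CUnit.isZero_Cob (M : G.Coalgebra) (n : ℤ) (hn : n < 0) : IsZero ((U.Cob.obj M).X n) := by
  rw [U.Cob_X]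
  cases n with
  | ofNat n => exact absurd hn (by simp)
  | negSucc n => exact isZero_zero C

end Preadditive

section Exact

variable [Abelian C] [G.toFunctor.Additive]

lemma pwMap_add {M N : C} (f g : M ⟶ N) (n : ℕ) : pwMap G (f + g) n = pwMap G f n + pwMap G g n := by
  induction n with
  | zero => rfl
  | succ n ih => simp only [pwMap, ih]; exact G.toFunctor.map_add

instance additive_Cob : U.Cob.Additive where
  map_add {M N f g} := by
    ext n
    change cobMap G (f.f + g.f) n = cobMap G f.f n + cobMap G g.f n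
    cases n with
    | ofNat n => exact pwMap_add _ _ n
    | negSucc n => exact (isZero_zero C).eq_of_src _ _

variable [PreservesFiniteLimits G.toFunctor] [PreservesFiniteColimits G.toFunctor]

lemma shortExact_pw (S : ShortComplex C) (hS : S.ShortExact) (n : ℕ) :
    (ShortComplex.mk (pwMap G S.f n) (pwMap G S.g n) (by
      rw [← pwMap_comp, S.zero]
      have := pwMap_add (G := G) (0 : S.X₁ ⟶ S.X₃) 0 n
      rw [add_zero] at this
      exact left_eq_add.mp this)).ShortExact := by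
  induction n with
  | zero => exact hS
  | succ n ih => exact ih.map_of_exact G.toFunctor

lemma shortExact_Cob (S : ShortComplex G.Coalgebra) (hS : S.ShortExact) : (S.map U.Cob).ShortExact := by
  apply HomologicalComplex.shortExact_of_degreewise_shortExact
  intro i
  cases i with
  | ofNat n => exact shortExact_pw (S.map G.forget) (hS.map_of_exact G.forget) n
  | negSucc n =>
    have h : ∀ M : G.Coalgebra, IsZero ((U.Cob.obj M).X (Int.negSucc n)) := fun M => isZero_zero C
    have hm : Mono ((S.map U.Cob).map (HomologicalComplex.eval C (ComplexShape.up ℤ) (Int.negSucc n))).f :=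
      ⟨fun _ _ _ => (h S.X₁).eq_of_tgt _ _⟩
    have he : Epi ((S.map U.Cob).map (HomologicalComplex.eval C (ComplexShape.up ℤ) (Int.negSucc n))).g :=
      ⟨fun _ _ _ => (h S.X₃).eq_of_src _ _⟩
    exact ⟨ShortComplex.exact_of_isZero_X₂ _ (h S.X₂)⟩

lemma exact_Cob : PreservesFiniteLimits U.Cob ∧ PreservesFiniteColimits U.Cob := by
  have h := (Functor.exact_tfae U.Cob).out 0 3
  exact h.mp (shortExact_Cob U)

instance preservesFiniteLimits_Cob : PreservesFiniteLimits U.Cob := (exact_Cob U).1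

instance preservesFiniteColimits_Cob : PreservesFiniteColimits U.Cob := (exact_Cob U).2

end Exact

end Groth.Agent.ResProp.EF.K496
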