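import Groth.Agent.ResProp.EF.K496.CobAbs
import Mathlib.Algebra.Homology.HomologicalComplexLimits
import Mathlib.Algebra.Homology.Additive

/-!
# Naturality of the cobar complex in the comonad; colimits (`S16912`, helper496)

`CHom U U' Φ`: an additive functor `Φ : C ⥤ C'` with `Φ G ≅ G' Φ` compatible with counit, comultiplication and
unit.  `CHom.lift : G.Coalgebra ⥤ G'.Coalgebra`, `CHom.cobIso : U.Cob ⋙ Φ ≅ lift ⋙ U'.Cob`.
`U.Cob` preserves the colimits preserved by `G`.
-/

set_option autoImplicit false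

noncomputable section

open CategoryTheory CategoryTheory.Limits

namespace Groth.Agent.ResProp.EF.K496

universe v v' u u' w w'

variable {C : Type u} [Category.{v} C] {C' : Type u'} [Category.{v'} C']
variable {G : Comonad C} {G' : Comonad C'}

/-- Functors compatible with comonads with units. -/
structure CHom (U : CUnit G) (U' : CUnit G') (Φ : C ⥤ C') where
  iso : ∀ N : C, Φ.obj (G.obj N) ≅ G'.obj (Φ.obj N)
  nat : ∀ {M N : C} (f : M ⟶ N), Φ.map (G.map f) ≫ (iso N).hom = (iso M).hom ≫ G'.map (Φ.map f)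
  eps : ∀ N : C, (iso N).hom ≫ G'.ε.app (Φ.obj N) = Φ.map (G.ε.app N)
  del : ∀ N : C, Φ.map (dl G N) ≫ (iso (G.obj N)).hom ≫ G'.map (iso N).hom = (iso N).hom ≫ dl G' (Φ.obj N)
  one : ∀ N : C, Φ.map (U.e N) ≫ (iso N).hom = U'.e (Φ.obj N)

namespace CHom

variable {U : CUnit G} {U' : CUnit G'} {Φ : C ⥤ C'} (F : CHom U U' Φ)

/-- the functor on coalgebras, objects -/
@[simps]
def liftObj (M : G.Coalgebra) : G'.Coalgebra where
  A := Φ.obj M.A
  a := Φ.map M.a ≫ (F.iso M.A).hom
  counit := by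
    have h : M.a ≫ G.ε.app M.A = 𝟙 M.A := M.counit
    rw [Category.assoc, F.eps, ← Φ.map_comp, h, Φ.map_id]
  coassoc := by
    have h : M.a ≫ dl G M.A = M.a ≫ G.map M.a := M.coassoc
    change (Φ.map M.a ≫ (F.iso M.A).hom) ≫ dl G' (Φ.obj M.A) = _
    rw [Category.assoc, ← F.del, ← Category.assoc, ← Φ.map_comp, h, Φ.map_comp, Category.assoc,
      ← Category.assoc (Φ.map (G.map M.a)), F.nat, Category.assoc, ← G'.map_comp, Category.assoc]

/-- the functor on coalgebras -/
@[simps]
def lift : G.Coalgebra ⥤ G'.Coalgebra where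
  obj M := F.liftObj M
  map {M N} f :=
    { f := Φ.map f.f
      h := by
        have h : M.a ≫ G.map f.f = f.f ≫ N.a := f.h
        change (Φ.map M.a ≫ (F.iso M.A).hom) ≫ G'.map (Φ.map f.f) = Φ.map f.f ≫ Φ.map N.a ≫ (F.iso N.A).hom
        rw [Category.assoc, ← F.nat, ← Category.assoc, ← Φ.map_comp, h, Φ.map_comp, Category.assoc] }
  map_id M := by
    ext
    exact Φ.map_id _
  map_comp f g := by
    ext
    exact Φ.map_comp _ _

lemma lift_forget : F.lift ⋙ G'.forget = G.forget ⋙ Φ := rfl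

/-- the identification of the terms -/
def pwIso (N : C) : (n : ℕ) → (Φ.obj (pw G N n) ≅ pw G' (Φ.obj N) n)
  | 0 => Iso.refl _
  | n + 1 => F.iso (pw G N n) ≪≫ G'.toFunctor.mapIso (pwIso N n)

include F in
lemma pwIso_nat {M N : C} (f : M ⟶ N) (n : ℕ) :
    Φ.map (pwMap G f n) ≫ (F.pwIso N n).hom = (F.pwIso M n).hom ≫ pwMap G' (Φ.map f) n := by
  induction n with
  | zero =>
    change Φ.map f ≫ 𝟙 _ = 𝟙 _ ≫ Φ.map f
    simp
  | succ n ih =>
    change Φ.map (G.map (pwMap G f n)) ≫ (F.iso _).hom ≫ G'.map (F.pwIso N n).hom =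
      ((F.iso _).hom ≫ G'.map (F.pwIso M n).hom) ≫ G'.map (pwMap G' (Φ.map f) n)
    rw [← Category.assoc, F.nat, Category.assoc, ← G'.map_comp, ih, G'.map_comp, Category.assoc]

section Preadditive

variable [Preadditive C] [Preadditive C'] [Φ.Additive]

lemma tl_comm (N : C) :
    Φ.map (U.tl N) ≫ (F.iso (G.obj N)).hom ≫ G'.map (F.iso N).hom = (F.iso N).hom ≫ U'.tl (Φ.obj N) := by
  have h1 : Φ.map (U.e (G.obj N)) ≫ (F.iso (G.obj N)).hom ≫ G'.map (F.iso N).hom =
      (F.iso N).hom ≫ U'.e (G'.obj (Φ.obj N)) := by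
    rw [← Category.assoc, F.one, U'.nat]
  have h2 : Φ.map (G.map (U.e N)) ≫ (F.iso (G.obj N)).hom ≫ G'.map (F.iso N).hom =
      (F.iso N).hom ≫ G'.map (U'.e (Φ.obj N)) := by
    rw [← Category.assoc, F.nat, Category.assoc, ← G'.map_comp, F.one]
  rw [CUnit.tl, CUnit.tl, Φ.map_sub, Φ.map_sub, Preadditive.sub_comp, Preadditive.sub_comp, F.del, h1, h2,
    Preadditive.comp_sub, Preadditive.comp_sub]

variable [G.toFunctor.Additive] [G'.toFunctor.Additive]

omit [G.toFunctor.Additive] [G'.toFunctor.Additive] in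
lemma stp_comm {N : C} {N' : C'} (j : Φ.obj N ⟶ N') (f : N ⟶ G.obj N) (g : N' ⟶ G'.obj N') (s : ℤ)
    (h : Φ.map f ≫ (F.iso N).hom ≫ G'.map j = j ≫ g) :
    Φ.map (U.stp f s) ≫ (F.iso (G.obj N)).hom ≫ G'.map ((F.iso N).hom ≫ G'.map j) =
      ((F.iso N).hom ≫ G'.map j) ≫ U'.stp g s := by
  have h1 : Φ.map (G.map f) ≫ (F.iso (G.obj N)).hom ≫ G'.map ((F.iso N).hom ≫ G'.map j) =
      ((F.iso N).hom ≫ G'.map j) ≫ G'.map g := by
    rw [← Category.assoc, F.nat, Category.assoc, ← G'.map_comp, h, G'.map_comp, Category.assoc]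
  have h2 : Φ.map (U.tl N) ≫ (F.iso (G.obj N)).hom ≫ G'.map ((F.iso N).hom ≫ G'.map j) =
      ((F.iso N).hom ≫ G'.map j) ≫ U'.tl N' := by
    rw [G'.map_comp, ← Category.assoc (F.iso (G.obj N)).hom, ← Category.assoc (Φ.map (U.tl N)), F.tl_comm,
      Category.assoc, ← U'.tl_nat, Category.assoc]
  rw [CUnit.stp, CUnit.stp, Φ.map_add, Φ.map_zsmul, Preadditive.add_comp, Preadditive.zsmul_comp, h1, h2,
    Preadditive.comp_add, Preadditive.comp_zsmul]

lemma d_comm (M : G.Coalgebra) (n : ℕ) :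
    Φ.map (U.d M n) ≫ (F.pwIso M.A (n + 1)).hom = (F.pwIso M.A n).hom ≫ U'.d (F.liftObj M) n := by
  induction n with
  | zero =>
    have e1 : (F.pwIso M.A 1).hom = (F.iso M.A).hom := by
      change (F.iso M.A).hom ≫ G'.map (𝟙 _) = _
      rw [G'.map_id, Category.comp_id]
    change Φ.map (M.a - U.e M.A) ≫ (F.pwIso M.A 1).hom =
      𝟙 _ ≫ (Φ.map M.a ≫ (F.iso M.A).hom - U'.e (Φ.obj M.A))
    rw [e1, Φ.map_sub, Preadditive.sub_comp, F.one, Category.id_comp]
  | succ n ih => exact F.stp_comm (F.pwIso M.A n).hom (U.d M n) (U'.d (F.liftObj M) n) _ ih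

variable [HasZeroObject C] [HasZeroObject C']

open ZeroObject

/-- the identification of the terms, indexed by `ℤ` -/
def cobXIso (N : C) : (n : ℤ) → (Φ.obj (cobX G N n) ≅ cobX G' (Φ.obj N) n)
  | Int.ofNat n => F.pwIso N n
  | Int.negSucc _ => Φ.mapZeroObject

/-- **The cobar complex commutes with `Φ`**, objects. -/
def cobIsoObj (M : G.Coalgebra) :
    (Φ.mapHomologicalComplex (ComplexShape.up ℤ)).obj (U.Cob.obj M) ≅ U'.Cob.obj (F.lift.obj M) :=
  HomologicalComplex.Hom.isoOfComponents (fun n => F.cobXIso M.A n) fun i j hij => by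
    obtain rfl : i + 1 = j := hij
    have hM : (U.Cob.obj M).d i (i + 1) = U.cobd M i := CochainComplex.of_d _ _ _
    have hN : (U'.Cob.obj (F.lift.obj M)).d i (i + 1) = U'.cobd (F.liftObj M) i := CochainComplex.of_d _ _ _
    rw [Functor.mapHomologicalComplex_obj_d, hM, hN]
    cases i with
    | ofNat n => exact (F.d_comm M n).symm
    | negSucc n => exact (Φ.map_isZero (isZero_zero C)).eq_of_src _ _

/-- **The cobar complex commutes with `Φ`.** -/
def cobIso : U.Cob ⋙ Φ.mapHomologicalComplex (ComplexShape.up ℤ) ≅ F.lift ⋙ U'.Cob :=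
  NatIso.ofComponents (fun M => F.cobIsoObj M) fun {M N} f => by
    ext n
    change Φ.map (cobMap G f.f n) ≫ (F.cobXIso N.A n).hom = (F.cobXIso M.A n).hom ≫ cobMap G' (Φ.map f.f) n
    cases n with
    | ofNat n => exact F.pwIso_nat f.f n
    | negSucc n => exact (Φ.map_isZero (isZero_zero C)).eq_of_src _ _

end Preadditive

end CHom

section Colimits

variable {J : Type w} [Category.{w'} J]

instance preservesColimitsOfShape_pw [PreservesColimitsOfShape J G.toFunctor] (n : ℕ) :
    PreservesColimitsOfShape J (pwFunctor G n) := by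
  induction n with
  | zero => exact inferInstanceAs (PreservesColimitsOfShape J (𝟭 C))
  | succ n ih => exact inferInstanceAs (PreservesColimitsOfShape J (pwFunctor G n ⋙ G.toFunctor))

/-- a functor with zero values preserves colimits -/
lemma preservesColimitsOfShape_of_isZero {D : Type*} [Category D] (F : D ⥤ C) (h : ∀ X, IsZero (F.obj X)) :
    PreservesColimitsOfShape J F where
  preservesColimit {K} := ⟨fun {c} _ => ⟨{
    desc := fun s => (h c.pt).to_ s.pt
    fac := fun s j => (h (K.obj j)).eq_of_src _ _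
    uniq := fun s m _ => (h c.pt).eq_of_src _ _ }⟩⟩

/-- `Cob` preserves the colimits preserved by `G`. -/
instance preservesColimitsOfShape_Cob [Preadditive C] [HasZeroObject C] [G.toFunctor.Additive] (U : CUnit G)
    [HasColimitsOfShape J C] [PreservesColimitsOfShape J G.toFunctor] :
    PreservesColimitsOfShape J U.Cob := by
  apply HomologicalComplex.preservesColimitsOfShape_of_eval
  intro i
  cases i with
  | ofNat n => exact inferInstanceAs (PreservesColimitsOfShape J (G.forget ⋙ pwFunctor G n))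
  | negSucc n => exact preservesColimitsOfShape_of_isZero _ fun _ => isZero_zero C

end Colimits

end Groth.Agent.ResProp.EF.K496
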