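import Groth.Agent.ResProp.EF.K496.CobNat
import Groth.Agent.ResProp.EF.K945.TensN

/-!
# `Cob(M) ⊗ N = Cob(M ⊗ N)` (`S16912`, G6c, helper496)

`gammaHom R O N : CHom (UO R O) (UO R O) (tensorRight N)`; `gamma0`: `Cob ⋙ (- ⊗ N) ≅ (- ⊗ N) ⋙ Cob`;
`gamma`: the same after any endofunctor of comodules commuting with `- ⊗ N`.
-/

set_option autoImplicit false

noncomputable section

open CategoryTheory CategoryTheory.Limits TensorProduct MonoidalCategory ComplexShape

namespace Groth.Agent.ResProp.EF.K496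

universe u

variable (R : Type u) [CommRing R] (O : Type u) [CommRing O] [Bialgebra R O]

/-- `(- ⊗ N)` is compatible with the comonad `- ⊗ O`. -/
def gammaHom (N : ModuleCat.{u} R) : CHom (UO R O) (UO R O) (tensorRight N) where
  iso X := (TensorProduct.rightComm R X O N).toModuleIso
  nat {X Y} f := (K945.sGO R O).nat₁ f N
  eps X := (K945.sGO R O).counit X N
  del X := ((K945.sGO R O).comul X N).symm
  one X := by
    ext : 1
    exact TensorProduct.ext' fun x n => rfl

/-- the lift of `- ⊗ N` is helper945's functor -/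
def gammaLift (N : ModuleCat.{u} R) : (gammaHom R O N).lift ≅ (K945.sGO R O).bifunctor.flip.obj N :=
  Iso.refl _

/-- `Cob(M) ⊗ N = Cob(M ⊗ N)` -/
def gamma0 (N : ModuleCat.{u} R) : (UO R O).Cob ⋙ (tensorRight N).mapHomologicalComplex (up ℤ) ≅
    (K945.sGO R O).bifunctor.flip.obj N ⋙ (UO R O).Cob :=
  (gammaHom R O N).cobIso ≪≫ Functor.isoWhiskerRight (gammaLift R O N) _

variable {R O} in
/-- the same after an endofunctor `W` commuting with `- ⊗ N` -/
def gammaW (N : ModuleCat.{u} R) (W : (GO R O).Coalgebra ⥤ (GO R O).Coalgebra)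
    (w : W ⋙ (K945.sGO R O).bifunctor.flip.obj N ≅ (K945.sGO R O).bifunctor.flip.obj N ⋙ W) :
    (W ⋙ (UO R O).Cob) ⋙ (tensorRight N).mapHomologicalComplex (up ℤ) ≅
      (K945.sGO R O).bifunctor.flip.obj N ⋙ (W ⋙ (UO R O).Cob) :=
  Functor.isoWhiskerLeft W (gamma0 R O N) ≪≫ Functor.isoWhiskerRight w (UO R O).Cob

end Groth.Agent.ResProp.EF.K496
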